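import Groth.Agent.Sga3B.DSRigid

/-!
# Families of homomorphisms of diagonalisable groups and change of base

`f : S' ⟶ S`, `G` a group over `S`, `T'` over `S'`.  Families of homomorphisms `D(M) → G` over `S` parametrised by
`T'` (seen over `S`) are the same as families `D(M) → f^* G` over `S'` parametrised by `T'`: `fam`, `unfam`.
-/

set_option autoImplicit false
universe u

open CategoryTheory CategoryTheory.Limits MonoidalCategory CartesianMonoidalCategory MonObj GrpObj AlgebraicGeometry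

namespace Groth.Agent.Sga3.H767.FamBase

open Groth.Agent.Sga3B Groth.Agent.Sga3B.InfConjFam Groth.Agent.Sga3B.DSPts Groth.Agent.Sga3B.DSRigid

variable {S S' : Scheme.{u}} (f : S' ⟶ S) {M : Type} [AddCommGroup M] {G : Over S} [GrpObj G]

section ce

variable {T : Over S'} {X : Over S}

/-- A scheme over `S` with a morphism to an `S'`-scheme, seen over `S'`. -/
noncomputable def ct (t : X ⟶ (Over.map f).obj T) : Over S' := Over.mk (t.left ≫ T.hom)

/-- comparison -/
noncomputable def ce (t : X ⟶ (Over.map f).obj T) : X ⟶ (Over.map f).obj (ct f t) :=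
  Over.homMk (𝟙 _) ((Category.id_comp _).trans ((Category.assoc _ _ _).trans (Over.w t)))

@[simp] lemma ce_left (t : X ⟶ (Over.map f).obj T) : (ce f t).left = 𝟙 _ := rfl

/-- comparison, inverse -/
noncomputable def ci (t : X ⟶ (Over.map f).obj T) : (Over.map f).obj (ct f t) ⟶ X :=
  Over.homMk (𝟙 _) ((Category.id_comp _).trans ((Category.assoc _ _ _).trans (Over.w t)).symm)

lemma ce_ci (t : X ⟶ (Over.map f).obj T) : ce f t ≫ ci f t = 𝟙 _ := by
  ext1
  exact Category.id_comp _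

lemma ci_ce (t : X ⟶ (Over.map f).obj T) : ci f t ≫ ce f t = 𝟙 _ := by
  ext1
  exact Category.id_comp _

/-- the structure morphism -/
noncomputable def cs (t : X ⟶ (Over.map f).obj T) : ct f t ⟶ T := Over.homMk t.left rfl

lemma ce_cs (t : X ⟶ (Over.map f).obj T) : ce f t ≫ (Over.map f).map (cs f t) = t := by
  ext1
  exact Category.id_comp _

/-- a point of `D(M)`, seen over `S'` -/
noncomputable def cq (t : X ⟶ (Over.map f).obj T) (q : X ⟶ Red.DS S M) : ct f t ⟶ Red.DS S' M :=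
  untr f (ci f t ≫ q)

lemma ce_tr_cq (t : X ⟶ (Over.map f).obj T) (q : X ⟶ Red.DS S M) : ce f t ≫ tr f (cq f t q) = q := by
  rw [cq, tr_untr, ← Category.assoc, ce_ci, Category.id_comp]

lemma cq_mul (t : X ⟶ (Over.map f).obj T) (q q' : X ⟶ Red.DS S M) :
    cq f t (q * q') = cq f t q * cq f t q' := by
  rw [cq, cq, cq, MonObj.comp_mul, untr_mul]

/-- functoriality -/
noncomputable def cm {X' : Over S} (h : X' ⟶ X) (t : X ⟶ (Over.map f).obj T) : ct f (h ≫ t) ⟶ ct f t :=
  Over.homMk h.left (Category.assoc _ _ _).symm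

lemma cm_ce {X' : Over S} (h : X' ⟶ X) (t : X ⟶ (Over.map f).obj T) :
    ce f (h ≫ t) ≫ (Over.map f).map (cm f h t) = h ≫ ce f t := by
  ext1
  exact (Category.id_comp _).trans (Category.comp_id _).symm

lemma cm_cs {X' : Over S} (h : X' ⟶ X) (t : X ⟶ (Over.map f).obj T) :
    cm f h t ≫ cs f t = cs f (h ≫ t) := by
  ext1
  rfl

lemma cm_cq {X' : Over S} (h : X' ⟶ X) (t : X ⟶ (Over.map f).obj T) (q : X ⟶ Red.DS S M) :
    cm f h t ≫ cq f t q = cq f (h ≫ t) (h ≫ q) := by
  rw [cq, cq, ← untr_comp, ← Category.assoc, ← Category.assoc]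
  congr 2

end ce

variable {T : Over S'}

/-- The family over `S'` attached to a family over `S`. -/
noncomputable def fam (a : Red.DS S M ⊗ (Over.map f).obj T ⟶ G) : Red.DS S' M ⊗ T ⟶ Red.bc f G :=
  bcEquiv f _ G (lift (tr f (fst _ _)) ((Over.map f).map (snd _ _)) ≫ a)

lemma lift_fam (a : Red.DS S M ⊗ (Over.map f).obj T ⟶ G) {X : Over S'} (q : X ⟶ Red.DS S' M) (t : X ⟶ T) :
    lift q t ≫ fam f a = bcEquiv f X G (lift (tr f q) ((Over.map f).map t) ≫ a) := by
  rw [fam, bcEquiv_naturality, ← Category.assoc, comp_lift, ← tr_comp, ← Functor.map_comp, lift_fst, lift_snd]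

/-- The family over `S` attached to a family over `S'`. -/
noncomputable def unfam (b : Red.DS S' M ⊗ T ⟶ Red.bc f G) : Red.DS S M ⊗ (Over.map f).obj T ⟶ G :=
  ce f (snd _ _) ≫ (bcEquiv f _ G).symm (lift (cq f (snd _ _) (fst _ _)) (cs f (snd _ _)) ≫ b)

lemma lift_unfam (b : Red.DS S' M ⊗ T ⟶ Red.bc f G) {X : Over S} (q : X ⟶ Red.DS S M)
    (t : X ⟶ (Over.map f).obj T) :
    lift q t ≫ unfam f b = ce f t ≫ (bcEquiv f _ G).symm (lift (cq f t q) (cs f t) ≫ b) := by
  obtain ⟨h, hh⟩ : ∃ h : X ⟶ Red.DS S M ⊗ (Over.map f).obj T, h = lift q t := ⟨_, rfl⟩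
  have h1 : h ≫ fst _ _ = q := by rw [hh, lift_fst]
  have h2 : h ≫ snd _ _ = t := by rw [hh, lift_snd]
  rw [← hh]
  subst h1 h2
  rw [unfam, ← Category.assoc, ← cm_ce, Category.assoc, bcEquiv_symm_naturality, comp_lift_assoc, cm_cs, cm_cq]

theorem isHomFamily_fam {a : Red.DS S M ⊗ (Over.map f).obj T ⟶ G}
    (ha : AutFam.IsHomFamily (Red.DS S M) G a) : AutFam.IsHomFamily (Red.DS S' M) (Red.bc f G) (fam f a) := by
  intro X g₁ g₂ t
  rw [lift_fam, lift_fam, lift_fam, tr_mul, ha, map_mul]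

theorem isHomFamily_unfam {b : Red.DS S' M ⊗ T ⟶ Red.bc f G}
    (hb : AutFam.IsHomFamily (Red.DS S' M) (Red.bc f G) b) : AutFam.IsHomFamily (Red.DS S M) G (unfam f b) := by
  intro X g₁ g₂ t
  rw [lift_unfam, lift_unfam, lift_unfam, cq_mul, hb, map_mul, MonObj.comp_mul]

lemma hom_ext_lift {𝒞 : Type*} [Category 𝒞] [CartesianMonoidalCategory 𝒞] {A B X : 𝒞} {u v : A ⊗ B ⟶ X}
    (h : ∀ (Y : 𝒞) (p : Y ⟶ A) (q : Y ⟶ B), lift p q ≫ u = lift p q ≫ v) : u = v := by
  have := h _ (fst A B) (snd A B)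
  rwa [lift_fst_snd, Category.id_comp, Category.id_comp] at this

theorem unfam_fam (a : Red.DS S M ⊗ (Over.map f).obj T ⟶ G) : unfam f (fam f a) = a := by
  refine hom_ext_lift fun X q t => ?_
  rw [lift_unfam, lift_fam, MulEquiv.symm_apply_apply, comp_lift_assoc, ce_tr_cq, ce_cs]

theorem fam_unfam (b : Red.DS S' M ⊗ T ⟶ Red.bc f G) : fam f (unfam f b) = b := by
  refine hom_ext_lift fun X q t => ?_
  let i : X ⟶ ct f ((Over.map f).map t) := Over.homMk (𝟙 _) ((Category.id_comp _).trans (Over.w t))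
  have hi : ce f ((Over.map f).map t) = (Over.map f).map i := by
    ext1
    rfl
  have h1 : i ≫ cs f ((Over.map f).map t) = t := by
    ext1
    exact Category.id_comp _
  have h2 : i ≫ cq f ((Over.map f).map t) (tr f q) = q := by
    rw [cq, ← untr_comp, ← Category.assoc, ← hi, ce_ci, Category.id_comp]
    apply (dsEquiv _ M).symm.injective
    change dsChar _ = dsChar _
    exact (dsChar_untr f _).trans (dsChar_tr f q)
  rw [lift_fam, lift_unfam, hi, ← bcEquiv_naturality, MulEquiv.apply_symm_apply, comp_lift_assoc, h1, h2]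

/-- Naturality in the parameter scheme. -/
theorem whisker_fam {T' : Over S'} (h : T' ⟶ T) (a : Red.DS S M ⊗ (Over.map f).obj T ⟶ G) :
    Red.DS S' M ◁ h ≫ fam f a = fam f (Red.DS S M ◁ (Over.map f).map h ≫ a) := by
  refine hom_ext_lift fun X q t => ?_
  rw [lift_fam, ← Category.assoc, ← Category.assoc, lift_whiskerLeft, lift_whiskerLeft, lift_fam, Functor.map_comp]

theorem whisker_unfam {T' : Over S'} (h : T' ⟶ T) (b : Red.DS S' M ⊗ T ⟶ Red.bc f G) :
    Red.DS S M ◁ (Over.map f).map h ≫ unfam f b = unfam f (Red.DS S' M ◁ h ≫ b) := by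
  conv_rhs => rw [← fam_unfam f b, whisker_fam, unfam_fam]

end Groth.Agent.Sga3.H767.FamBase
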