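import Groth.Agent.Ega4C.GeomCompReg
import Groth.Agent.CalgB.RegHom7
import Groth.Agent.Proet.FacInd
import Groth.Agent.S0543
import Groth.Agent.S0595
import Groth.Agent.S0599
import Mathlib.RingTheory.AdicCompletion.LocalRing

/-!
# Algebras over a G-ring with a point in a field: passage to a complete local ring

`B` a G-ring, `W` a finitely generated `B`-algebra with a `B`-homomorphism `b : W → K` to a field.  There is a
complete noetherian local `B`-algebra `C` which is a filtered colimit of smooth `B`-algebras, with a map
`c : W → κ(C)` and an embedding `κ(C) → K`, inducing `b`.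
-/

set_option autoImplicit false
universe u

open IsLocalRing Groth.Agent.Proet.FacM Groth.Agent.Proet.FacInd

namespace Groth.Agent.Sga3.H767.GRingFac

/-- Smooth algebras. -/
abbrev Sm (A : Type u) [CommRing A] : ∀ (W : Type u) [CommRing W] [Algebra A W], Prop :=
  fun W _ _ => Algebra.Smooth A W

theorem good_sm {A : Type u} [CommRing A] : Good (Sm A) where
  iso W W' _ _ _ _ e h := by
    have : Algebra.Smooth A W := h
    exact Algebra.Smooth.of_equiv e
  fp W _ _ h := by
    have : Algebra.Smooth A W := h
    infer_instance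

/-- Popescu: a regular homomorphism of noetherian rings has the factorization property for smooth algebras. -/
theorem fac_of_isRegularHom {R L : Type u} [CommRing R] [CommRing L] [IsNoetherianRing R]
    [IsNoetherianRing L] [Algebra R L] (h : CAlg.IsRegularHom R L) : Fac R (Sm R) L := by
  intro Z _ _ _ g
  obtain ⟨W, _, _, hW, a, b, hab⟩ := Groth.Agent.S0595.result R L h Z g
  exact ⟨W, inferInstance, inferInstance, a, b, hW, hab⟩

/-- The completion of a local ring of a polynomial ring over a G-ring `B` is regular over `B`. -/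
theorem isRegularHom_completion {B : Type u} [CommRing B] (hB : CAlg.IsGRing B) (n : ℕ)
    (q : Ideal (MvPolynomial (Fin n) B)) [q.IsPrime] :
    CAlg.IsRegularHom B (AdicCompletion (maximalIdeal (Localization.AtPrime q)) (Localization.AtPrime q)) := by
  have hN : IsNoetherianRing B := hB.1
  have h1 : CAlg.IsGRing (MvPolynomial (Fin n) B) := Groth.Agent.S0599.result B hB _
  have hN2 : IsNoetherianRing (AdicCompletion (maximalIdeal (Localization.AtPrime q)) (Localization.AtPrime q)) :=
    Groth.Agent.S0543.result _ _
  have h2 := h1.2 q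
  have h3 : CAlg.IsRegularHom (MvPolynomial (Fin n) B) (Localization.AtPrime q) :=
    Groth.Agent.CalgB.RegHom7.isRegularHom_of_isLocalization _ q.primeCompl
  have h4 : CAlg.IsRegularHom B (MvPolynomial (Fin n) B) :=
    Groth.Agent.Ega4C.GeomCompReg.isRegularHom_mvPolynomial B (Fin n)
  have h5 : CAlg.IsRegularHom B (Localization.AtPrime q) :=
    Groth.Agent.Ega4C.GeomCompReg.isRegularHom_comp B (MvPolynomial (Fin n) B) (Localization.AtPrime q) h4 h3
  exact Groth.Agent.Ega4C.GeomCompReg.isRegularHom_comp B (Localization.AtPrime q) _ h5 h2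

/-- Passage to a complete local ring. -/
theorem exists_complete {B : Type u} [CommRing B] (hB : CAlg.IsGRing B) (W : Type u) [CommRing W] [Algebra B W]
    [Algebra.FiniteType B W] {K : Type u} [Field K] [Algebra B K] (b : W →ₐ[B] K) :
    ∃ (C : Type u) (_ : CommRing C) (_ : IsLocalRing C) (_ : IsNoetherianRing C) (_ : Algebra B C),
      IsAdicComplete (maximalIdeal C) C ∧ Fac B (Sm B) C ∧
        ∃ (c : W →ₐ[B] ResidueField C) (e : ResidueField C →ₐ[B] K), e.comp c = b := by
  have hN : IsNoetherianRing B := hB.1
  obtain ⟨n, φ, hφ⟩ := Algebra.FiniteType.iff_quotient_mvPolynomial''.mp ‹Algebra.FiniteType B W›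
  let ψ : MvPolynomial (Fin n) B →ₐ[B] K := b.comp φ
  let q : Ideal (MvPolynomial (Fin n) B) := RingHom.ker ψ
  have hq : q.IsPrime := RingHom.ker_isPrime _
  let A := Localization.AtPrime q
  let C := AdicCompletion (maximalIdeal A) A
  have hNC : IsNoetherianRing C := Groth.Agent.S0543.result _ _
  have hac : IsAdicComplete (maximalIdeal C) C := inferInstance
  have hfac : Fac B (Sm B) C := fac_of_isRegularHom (isRegularHom_completion hB n q)
  let E₀ : q.ResidueField →ₐ[B] ResidueField C :=
    { toRingHom := ResidueField.map (algebraMap A C), commutes' := fun r => rfl }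
  let E : q.ResidueField ≃ₐ[B] ResidueField C :=
    AlgEquiv.ofBijective E₀ (AdicCompletion.residueField_map_bijective A)
  let l : q.ResidueField →ₐ[B] K := Ideal.ResidueField.liftₐ q ψ le_rfl (fun y hy => by
    change IsUnit (ψ y)
    rw [isUnit_iff_ne_zero]
    exact hy)
  let e : ResidueField C →ₐ[B] K := l.comp E.symm.toAlgHom
  let g : MvPolynomial (Fin n) B →ₐ[B] ResidueField C := E.toAlgHom.comp (IsScalarTower.toAlgHom B _ q.ResidueField)
  have heg : ∀ r, e (g r) = b (φ r) := fun r => by
    change l (E.symm (E (algebraMap _ q.ResidueField r))) = ψ r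
    rw [AlgEquiv.symm_apply_apply, Ideal.ResidueField.liftₐ_algebraMap]
  have hker : RingHom.ker φ.toRingHom ≤ RingHom.ker g.toRingHom := fun r hr => by
    change g r = 0
    apply e.toRingHom.injective
    change e (g r) = e 0
    rw [heg, map_zero]
    have : φ r = 0 := hr
    rw [this, map_zero]
  refine ⟨C, inferInstance, inferInstance, hNC, inferInstance, hac, hfac,
    AlgHom.liftOfSurjective φ hφ g hker, e, ?_⟩
  ext w
  obtain ⟨r, rfl⟩ := hφ w
  rw [AlgHom.comp_apply, AlgHom.liftOfSurjective_apply, heg]

end Groth.Agent.Sga3.H767.GRingFac
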