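import Groth.Agent.Sga3.H767.FamRing
import Groth.Agent.Sga3.H767.FamBase
import Groth.Agent.Sga3.H767.GRingFac
import Groth.Agent.Sga3.H816.UnitLoc
import Mathlib.AlgebraicGeometry.Geometrically.Irreducible

/-!
# Lifting homomorphisms of tori over smooth algebras over a G-ring

`B` a G-ring, `G` a smooth separated quasi-compact `B`-group with affine connected fibres.  If every homomorphism
from a split torus to a group of this kind over the closed point of a complete noetherian local ring lifts, then every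
homomorphism `y` from a split torus to `G` over a point `x : Spec K → Spec B` comes from a homomorphism over a smooth
affine `B`-scheme: `exists_smooth_lift`.
-/

set_option autoImplicit false
universe u

open CategoryTheory CategoryTheory.Limits MonoidalCategory CartesianMonoidalCategory MonObj GrpObj AlgebraicGeometry

namespace Groth.Agent.Sga3.H767.Popescu

open Groth.Agent.Proet.FacM Groth.Agent.Proet.FacInd Groth.Agent.Sga3B Groth.Agent.Sga3.H767.FamLim
  Groth.Agent.Sga3.H767.FamRing Groth.Agent.Sga3.H767.FamBase Groth.Agent.Sga3.H767.GRingFac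

/-- The effectivity property (E): homomorphisms from split tori lift from the closed point of a complete noetherian
local ring. -/
def Eff : Prop :=
  ∀ (C : Type u) [CommRing C] [IsLocalRing C] [IsNoetherianRing C] [IsAdicComplete (IsLocalRing.maximalIdeal C) C]
    (G : Over (Spec (CommRingCat.of C))) [GrpObj G] [Smooth G.hom] [IsSeparated G.hom] [QuasiCompact G.hom]
    [GeometricallyIrreducible G.hom],
    (∀ s : Spec (CommRingCat.of C), IsAffine (pullback G.hom ((Spec (CommRingCat.of C)).fromSpecResidueField s))) →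
    InfConjFam.HasAffineUnitNhd G → ∀ (r : ℕ)
    (y : Red.DS _ (Fin r → ℤ) ⊗ Over.mk (Spec.map (CommRingCat.ofHom (IsLocalRing.residue C))) ⟶ G),
    AutFam.IsHomFamily _ G y →
    ∃ u : Red.DS _ (Fin r → ℤ) ⊗ Over.mk (𝟙 (Spec (CommRingCat.of C))) ⟶ G, AutFam.IsHomFamily _ G u ∧
      (_ ◁ (Over.homMk (Spec.map (CommRingCat.ofHom (IsLocalRing.residue C))) (Category.comp_id _) :
        Over.mk (Spec.map (CommRingCat.ofHom (IsLocalRing.residue C))) ⟶ Over.mk (𝟙 _))) ≫ u = y

lemma isAffineHom_DS (S : Scheme.{u}) (N : Type) [AddCommGroup N] : IsAffineHom (Red.DS S N).hom := by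
  have h : IsAffineHom (Red.diag (ULift.{u} ℤ) N).hom := by
    change IsAffineHom (Spec.map _)
    infer_instance
  exact MorphismProperty.of_isPullback (P := @IsAffineHom)
    (IsPullback.of_hasPullback (Red.diag (ULift.{u} ℤ) N).hom (specULiftZIsTerminal.from S)) h

lemma affFib_of_isPullback {X S X' S' : Scheme.{u}} {f : X ⟶ S} {g : X' ⟶ X} {f' : X' ⟶ S'} {h : S' ⟶ S}
    (hf : ∀ s : S, IsAffine (pullback f (S.fromSpecResidueField s))) (H : IsPullback g f' f h) (s : S') :
    IsAffine (pullback f' (S'.fromSpecResidueField s)) := by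
  have h2 : IsPullback (pullback.fst f' (S'.fromSpecResidueField s) ≫ g) (pullback.snd f' (S'.fromSpecResidueField s)) f
      (S'.fromSpecResidueField s ≫ h) := (IsPullback.of_hasPullback f' _).flip.paste_vert H.flip |>.flip
  rw [← Scheme.Hom.SpecMap_residueFieldMap_fromSpecResidueField] at h2
  let l := pullback.lift _ _ (h2.w.trans (Category.assoc _ _ _).symm)
  have h3 : IsPullback l (pullback.snd f' (S'.fromSpecResidueField s)) (pullback.snd f (S.fromSpecResidueField (h s)))
      (Spec.map (h.residueFieldMap s)) := by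
    refine IsPullback.of_right (h₁₂ := pullback.fst f (S.fromSpecResidueField (h s))) (v₁₃ := f)
      (h₂₂ := S.fromSpecResidueField (h s)) ?_ (pullback.lift_snd _ _ _) (IsPullback.of_hasPullback _ _)
    rw [pullback.lift_fst]
    exact h2
  have h4 : IsAffineHom l := MorphismProperty.of_isPullback (P := @IsAffineHom) h3.flip inferInstance
  have h5 := hf (h s)
  exact isAffine_of_isAffineHom l

/-- **Passage from complete local rings to smooth algebras.** -/
theorem exists_smooth_lift (hE : Eff.{u}) {B : Type u} [CommRing B] (hB : CAlg.IsGRing B)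
    (G : Over (Spec (CommRingCat.of B))) [GrpObj G] [Smooth G.hom] [IsSeparated G.hom] [QuasiCompact G.hom]
    [GeometricallyIrreducible G.hom]
    (haff : ∀ s : Spec (CommRingCat.of B), IsAffine (pullback G.hom ((Spec (CommRingCat.of B)).fromSpecResidueField s)))
    (hU : InfConjFam.HasAffineUnitNhd G) (r : ℕ) {K : Type u} [Field K]
    (x : Spec (CommRingCat.of K) ⟶ Spec (CommRingCat.of B)) (y : Red.DS _ (Fin r → ℤ) ⊗ Over.mk x ⟶ G)
    (hy : AutFam.IsHomFamily _ G y) :
    ∃ (D : Type u) (_ : CommRing D) (d : Spec (CommRingCat.of D) ⟶ Spec (CommRingCat.of B))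
      (u : Red.DS _ (Fin r → ℤ) ⊗ Over.mk d ⟶ G) (k : Over.mk x ⟶ Over.mk d),
      Smooth d ∧ AutFam.IsHomFamily _ G u ∧ (_ ◁ k) ≫ u = y := by
  obtain ⟨φ, rfl⟩ := Spec.map_surjective x
  let : Algebra B K := φ.hom.toAlgebra
  let Z : Over (Spec (CommRingCat.of B)) := Red.DS _ (Fin r → ℤ)
  have hZ : IsAffineHom Z.hom := isAffineHom_DS _ _
  -- `y` is defined over a finitely presented algebra
  obtain ⟨W, _, _, b, v, hW, hv, hvy⟩ := exists_finitePresentation (Z := Z) (L := K) y hy
  -- the complete local ring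
  obtain ⟨C, _, _, _, _, hC, hfac, c, e, hec⟩ := exists_complete hB W b
  -- base change to `C`
  let f : Spec (CommRingCat.of C) ⟶ Spec (CommRingCat.of B) := Spec.map (CommRingCat.ofHom (algebraMap B C))
  have i1 : Smooth (Red.bc f G).hom := inferInstanceAs (Smooth (pullback.snd G.hom f))
  have i2 : IsSeparated (Red.bc f G).hom := inferInstanceAs (IsSeparated (pullback.snd G.hom f))
  have i3 : QuasiCompact (Red.bc f G).hom := inferInstanceAs (QuasiCompact (pullback.snd G.hom f))
  have i4 : GeometricallyIrreducible (Red.bc f G).hom :=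
    inferInstanceAs (GeometricallyIrreducible (pullback.snd G.hom f))
  have haff' := affFib_of_isPullback haff (IsPullback.of_hasPullback G.hom f)
  have hU' : InfConjFam.HasAffineUnitNhd (Red.bc f G) := Groth.Agent.Sga3.H816.UnitLoc.HasAffineUnitNhd.bc f G hU
  let ρ : Over (Spec (CommRingCat.of C)) := Over.mk (Spec.map (CommRingCat.ofHom (IsLocalRing.residue C)))
  let y1 : Z ⊗ sp B (IsLocalRing.ResidueField C) ⟶ G := Z ◁ spMap c ≫ v
  have hres : 𝟙 _ ≫ Spec.map (CommRingCat.ofHom (algebraMap B (IsLocalRing.ResidueField C))) =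
      Spec.map (CommRingCat.ofHom (IsLocalRing.residue C)) ≫ f := by
    rw [Category.id_comp, ← Spec.map_comp]
    rfl
  let i : (Over.map f).obj ρ ⟶ sp B (IsLocalRing.ResidueField C) := Over.homMk (𝟙 _) hres
  let j : sp B (IsLocalRing.ResidueField C) ⟶ (Over.map f).obj ρ :=
    Over.homMk (𝟙 _) ((Category.id_comp _).trans (hres.symm.trans (Category.id_comp _)))
  have hji : j ≫ i = 𝟙 _ := by
    ext1
    exact Category.id_comp _
  let y2 : Red.DS (Spec (CommRingCat.of C)) (Fin r → ℤ) ⊗ ρ ⟶ Red.bc f G := fam f (Z ◁ i ≫ y1)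
  obtain ⟨u2, hu2, hu2y⟩ := hE C (Red.bc f G) haff' hU' r y2
    (isHomFamily_fam f (isHomFamily_whisker _ (isHomFamily_whisker v hv _) _))
  let j' : sp B C ⟶ (Over.map f).obj (Over.mk (𝟙 _)) :=
    Over.homMk (𝟙 _) ((Category.id_comp _).trans (Category.id_comp _))
  let u1 : Z ⊗ sp B C ⟶ G := Z ◁ j' ≫ unfam f u2
  have hu1 : AutFam.IsHomFamily Z G u1 := isHomFamily_whisker _ (isHomFamily_unfam f hu2) _
  -- Popescu
  obtain ⟨D, _, _, d, w, hD, hw, hwu⟩ := exists_of_fac good_sm hfac u1 hu1
  let π : C →ₐ[B] IsLocalRing.ResidueField C := { IsLocalRing.residue C with commutes' := fun _ => rfl }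
  have h1 : Z ◁ spMap π ≫ u1 = y1 := by
    have h2 : spMap π ≫ j' = j ≫ (Over.map f).map
        (Over.homMk (Spec.map (CommRingCat.ofHom (IsLocalRing.residue C))) (Category.comp_id _) :
        ρ ⟶ Over.mk (𝟙 _)) := by
      ext1
      exact (Category.comp_id _).trans (Category.id_comp _).symm
    change Z ◁ spMap π ≫ Z ◁ j' ≫ unfam f u2 = y1
    rw [← Category.assoc, ← whiskerLeft_comp, h2, whiskerLeft_comp, Category.assoc, whisker_unfam, hu2y,
      unfam_fam, ← Category.assoc, ← whiskerLeft_comp, hji, whiskerLeft_id, Category.id_comp]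
  refine ⟨D, inferInstance, Spec.map (CommRingCat.ofHom (algebraMap B D)), w, spMap (e.comp (π.comp d)), ?_, hw, ?_⟩
  · rw [HasRingHomProperty.Spec_iff (P := @Smooth)]
    exact (RingHom.smooth_algebraMap).mpr hD
  · have h3 : Z ◁ spMap (e.comp (π.comp d)) ≫ w = y := by
      rw [← spMap_comp, ← spMap_comp, whiskerLeft_comp, whiskerLeft_comp, Category.assoc, Category.assoc, hwu, h1,
        ← hvy, ← hec, ← spMap_comp, whiskerLeft_comp, Category.assoc]
    exact h3

end Groth.Agent.Sga3.H767.Popescu
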