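import Groth.Agent.Sga3.H767.CompatPt
import Groth.Agent.Sga3B.InfConjFam

/-!
# Formal homomorphisms into an affine group over a complete local ring are algebraic
-/

set_option autoImplicit false
universe u

open CategoryTheory CategoryTheory.Limits MonoidalCategory CartesianMonoidalCategory MonObj GrpObj AlgebraicGeometry
  IsLocalRing

namespace Groth.Agent.Sga3.H767.AffAlg

open Groth.Agent.Sga3.H767.CompatPt

variable {R : Type u} [CommRing R] [IsLocalRing R]

/-- the closed subscheme `Spec (R / m ^ n)`, over `Spec R` -/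
noncomputable abbrev st (R : Type u) [CommRing R] [IsLocalRing R] (n : ℕ) : Over (Spec (CommRingCat.of R)) :=
  Over.mk (inc R n)

/-- transition, over `Spec R` -/
noncomputable def tr (R : Type u) [CommRing R] [IsLocalRing R] {a b : ℕ} (h : a ≤ b) : st R a ⟶ st R b :=
  Over.homMk (tra R h) (tra_inc h)

/-- the inclusion, over `Spec R` -/
noncomputable def ic (R : Type u) [CommRing R] [IsLocalRing R] (n : ℕ) : st R n ⟶ 𝟙_ (Over (Spec (CommRingCat.of R))) :=
  Over.homMk (inc R n) (Category.comp_id _)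

/-- Compatible points over `Spec R` come from a section. -/
theorem exists_section [IsAdicComplete (maximalIdeal R) R] {X : Over (Spec (CommRingCat.of R))}
    (a : ∀ n, st R n ⟶ X) (ha : ∀ (m n : ℕ) (h : m ≤ n), tr R h ≫ a n = a m) :
    ∃ a' : 𝟙_ (Over (Spec (CommRingCat.of R))) ⟶ X, ∀ n, ic R n ≫ a' = a n := by
  obtain ⟨b, hb⟩ := exists_point (fun n => (a n).left) (fun m n h => congrArg (fun k => k.left) (ha m n h))
  have h1 : b ≫ X.hom = 𝟙 _ := endo_eq_id _ fun n => by
    rw [← Category.assoc, hb]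
    exact Over.w (a n)
  exact ⟨Over.homMk b h1, fun n => Over.OverMorphism.ext (hb n)⟩

variable {Z G : Over (Spec (CommRingCat.of R))} [GrpObj Z] [GrpObj G]

/-- If the functor of homomorphisms `Z → G` is representable, then compatible homomorphisms
over `R / m ^ n` come from a homomorphism over `R`. -/
theorem exists_hom_of_representsHom [IsAdicComplete (maximalIdeal R) R] {A : Over (Spec (CommRingCat.of R))}
    {υ : Z ⊗ A ⟶ G} (hυ : AutFam.RepresentsHom Z G A υ) (u : ∀ n, Z ⊗ st R n ⟶ G)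
    (hu : ∀ n, AutFam.IsHomFamily Z G (u n)) (hc : ∀ (m n : ℕ) (h : m ≤ n), Z ◁ tr R h ≫ u n = u m) :
    ∃ v : Z ⟶ G, IsMonHom v ∧ ∀ n, fst Z (st R n) ≫ v = u n := by
  choose a ha ha' using fun n => hυ.2 _ (u n) (hu n)
  have ha : ∀ n, Z ◁ a n ≫ υ = u n := ha
  have hcm : ∀ (m n : ℕ) (h : m ≤ n), Z ◁ (tr R h ≫ a n) ≫ υ = u m := fun m n h => by
    rw [whiskerLeft_comp, Category.assoc, ha n, hc]
  obtain ⟨b, hb⟩ := exists_section a fun m n h => ha' m _ (hcm m n h)
  have hfam : ∀ n, fst Z (st R n) ≫ lift (𝟙 Z) (toUnit Z ≫ b) ≫ υ = u n := fun n => by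
    rw [← ha n, ← Category.assoc, comp_lift, Category.comp_id]
    congr 1
    apply CartesianMonoidalCategory.hom_ext
    · rw [lift_fst, whiskerLeft_fst]
    · rw [lift_snd, whiskerLeft_snd, ← hb n, ← Category.assoc, ← Category.assoc]
      congr 1
      exact toUnit_unique _ _
  have hmul : ∀ (T : Over (Spec (CommRingCat.of R))) (x y : T ⟶ Z),
      (x * y) ≫ lift (𝟙 Z) (toUnit Z ≫ b) ≫ υ =
        (x ≫ lift (𝟙 Z) (toUnit Z ≫ b) ≫ υ) * (y ≫ lift (𝟙 Z) (toUnit Z ≫ b) ≫ υ) := fun T x y => by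
    have h1 : ∀ z : T ⟶ Z, z ≫ lift (𝟙 Z) (toUnit Z ≫ b) ≫ υ = lift z (toUnit T ≫ b) ≫ υ := fun z => by
      rw [← Category.assoc, comp_lift, Category.comp_id, ← Category.assoc, comp_toUnit]
    rw [h1, h1, h1, hυ.1]
  exact ⟨lift (𝟙 Z) (toUnit Z ≫ b) ≫ υ, Groth.Agent.Sga3B.InfConjFam.isMonHom_of_mul _ hmul, hfam⟩

end Groth.Agent.Sga3.H767.AffAlg
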