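import Groth.Prelude.Def_AutFam
import Mathlib.RingTheory.AdicCompletion.RingHom
import Mathlib.RingTheory.LocalRing.MaximalIdeal.Basic
import Mathlib.AlgebraicGeometry.AffineScheme
import Mathlib.AlgebraicGeometry.Stalk
import Mathlib.RingTheory.Nilpotent.Lemmas

/-!
# Compatible points over a complete local ring

`R` a local ring complete for its maximal ideal.

* `exists_point` : compatible points of a scheme with values in `R / m ^ n` come from a point with values in `R`.
* `exists_hom_of_representsHom` : if the functor of homomorphisms `Z → G` is representable, then compatible homomorphisms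
  over `R / m ^ n` come from a homomorphism over `R`.
-/

set_option autoImplicit false
universe u

open CategoryTheory CategoryTheory.Limits MonoidalCategory CartesianMonoidalCategory MonObj GrpObj AlgebraicGeometry
  IsLocalRing

namespace Groth.Agent.Sga3.H767.CompatPt

variable {R : Type u} [CommRing R] [IsLocalRing R]

/-- the closed immersion `Spec (R / m ^ n) → Spec R` -/
noncomputable abbrev inc (R : Type u) [CommRing R] [IsLocalRing R] (n : ℕ) :
    Spec (CommRingCat.of (R ⧸ maximalIdeal R ^ n)) ⟶ Spec (CommRingCat.of R) :=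
  Spec.map (CommRingCat.ofHom (Ideal.Quotient.mk (maximalIdeal R ^ n)))

/-- the closed immersion `Spec (R / m ^ a) → Spec (R / m ^ b)` -/
noncomputable abbrev tra (R : Type u) [CommRing R] [IsLocalRing R] {a b : ℕ} (h : a ≤ b) :
    Spec (CommRingCat.of (R ⧸ maximalIdeal R ^ a)) ⟶ Spec (CommRingCat.of (R ⧸ maximalIdeal R ^ b)) :=
  Spec.map (CommRingCat.ofHom (Ideal.Quotient.factor (Ideal.pow_le_pow_right h)))

lemma tra_inc {a b : ℕ} (h : a ≤ b) : tra R h ≫ inc R b = inc R a := by
  rw [← Spec.map_comp]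
  rfl

/-- `Spec (R / m ^ n)` has at most one point. -/
lemma subsingleton_spec (n : ℕ) : Subsingleton (PrimeSpectrum (R ⧸ maximalIdeal R ^ n)) := by
  refine ⟨fun p q => ?_⟩
  have key : ∀ p : PrimeSpectrum (R ⧸ maximalIdeal R ^ n),
      p.asIdeal.comap (Ideal.Quotient.mk (maximalIdeal R ^ n)) = maximalIdeal R := by
    intro p
    have h1 : (p.asIdeal.comap (Ideal.Quotient.mk (maximalIdeal R ^ n))).IsPrime := inferInstance
    refine le_antisymm (le_maximalIdeal h1.ne_top) ?_
    refine Ideal.IsPrime.le_of_pow_le (n := n) ?_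
    intro x hx
    rw [Ideal.mem_comap, Ideal.Quotient.eq_zero_iff_mem.mpr hx]
    exact Ideal.zero_mem _
  ext1
  rw [← Ideal.map_comap_of_surjective _ Ideal.Quotient.mk_surjective p.asIdeal,
    ← Ideal.map_comap_of_surjective _ Ideal.Quotient.mk_surjective q.asIdeal, key, key]

/-- Compatible points come from a point. -/
theorem exists_point [IsAdicComplete (maximalIdeal R) R] {X : Scheme.{u}}
    (a : ∀ n, Spec (CommRingCat.of (R ⧸ maximalIdeal R ^ n)) ⟶ X)
    (ha : ∀ (m n : ℕ) (h : m ≤ n), tra R h ≫ a n = a m) :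
    ∃ a' : Spec (CommRingCat.of R) ⟶ X, ∀ n, inc R n ≫ a' = a n := by
  -- the point
  have hne : maximalIdeal R ^ 1 ≠ ⊤ := by rw [pow_one]; exact (maximalIdeal.isMaximal R).ne_top
  have hnt : Nontrivial (R ⧸ maximalIdeal R ^ 1) := Ideal.Quotient.nontrivial_iff.mpr hne
  let z : PrimeSpectrum (R ⧸ maximalIdeal R ^ 1) := Classical.arbitrary _
  obtain ⟨V, hV, hxV, -⟩ := exists_isAffineOpen_mem_and_subset (x := a 1 z) (U := ⊤) trivial
  have hrange : ∀ n, Set.range (a n) ⊆ Set.range V.ι := by
    intro n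
    rintro _ ⟨y, rfl⟩
    rw [Scheme.Opens.range_ι]
    rcases Nat.eq_zero_or_pos n with rfl | hn
    · exfalso
      have h1 : Subsingleton (R ⧸ maximalIdeal R ^ 0) := by
        rw [pow_zero, Ideal.one_eq_top]
        exact Ideal.Quotient.subsingleton_iff.mpr rfl
      exact IsEmpty.false (α := PrimeSpectrum (R ⧸ maximalIdeal R ^ 0)) y
    · have hn' : 1 ≤ n := hn
      let z' : Spec (CommRingCat.of (R ⧸ maximalIdeal R ^ 1)) := z
      have h1 : y = tra R hn' z' := (subsingleton_spec n).elim _ _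
      have h2 : a n (tra R hn' z') = a 1 z' := by
        rw [← Scheme.Hom.comp_apply, ha]
      rw [h1, h2]
      exact hxV
  let b : ∀ n, Spec (CommRingCat.of (R ⧸ maximalIdeal R ^ n)) ⟶ V.toScheme := fun n =>
    IsOpenImmersion.lift V.ι (a n) (hrange n)
  have hb : ∀ n, b n ≫ V.ι = a n := fun n => IsOpenImmersion.lift_fac _ _ _
  have hbc : ∀ (m n : ℕ) (h : m ≤ n), tra R h ≫ b n = b m := fun m n h => by
    rw [← cancel_mono V.ι, Category.assoc, hb, hb, ha]
  have : IsAffine V.toScheme := hV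
  let C : Type u := Γ(V.toScheme, ⊤)
  let e : V.toScheme ≅ Spec (CommRingCat.of C) := V.toScheme.isoSpec
  have hφ : ∀ n, ∃ φ : C →+* R ⧸ maximalIdeal R ^ n, b n ≫ e.hom = Spec.map (CommRingCat.ofHom φ) := fun n => by
    obtain ⟨ψ, hψ⟩ := Spec.map_surjective (b n ≫ e.hom)
    exact ⟨ψ.hom, hψ.symm⟩
  choose φ hφ using hφ
  have hφc : ∀ {m n : ℕ} (h : m ≤ n), (Ideal.Quotient.factorPow (maximalIdeal R) h).comp (φ n) = φ m := by
    intro m n h
    have h1 := congrArg (fun k => k ≫ e.hom) (hbc m n h)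
    simp only [Category.assoc, hφ] at h1
    rw [← Spec.map_comp, ← CommRingCat.ofHom_comp] at h1
    exact congrArg CommRingCat.Hom.hom (Spec.map_injective h1)
  let φ' : C →+* R := IsAdicComplete.liftRingHom (maximalIdeal R) φ hφc
  have hφ' : ∀ n, (Ideal.Quotient.mk (maximalIdeal R ^ n)).comp φ' = φ n := fun n =>
    RingHom.ext fun x => IsAdicComplete.mk_liftRingHom _ _ _ _ x
  refine ⟨Spec.map (CommRingCat.ofHom φ') ≫ e.inv ≫ V.ι, fun n => ?_⟩
  rw [← Category.assoc, ← Spec.map_comp, ← CommRingCat.ofHom_comp, hφ', ← hφ, Category.assoc,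
    Iso.hom_inv_id_assoc, hb]

/-- A point is determined by its reductions. -/
theorem endo_eq_id [IsAdicComplete (maximalIdeal R) R] (f : Spec (CommRingCat.of R) ⟶ Spec (CommRingCat.of R))
    (h : ∀ n, inc R n ≫ f = inc R n) : f = 𝟙 _ := by
  obtain ⟨φ, rfl⟩ := Spec.map_surjective f
  have h1 : ∀ n x, φ.hom x - x ∈ maximalIdeal R ^ n := fun n x => by
    have h2 := h n
    rw [← Spec.map_comp] at h2
    have h3 := congrArg (fun k => k.hom x) (Spec.map_injective h2)
    exact (Ideal.Quotient.mk_eq_mk_iff_sub_mem _ _).mp h3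
  have h2 : φ = 𝟙 _ := by
    ext x
    have h3 : φ.hom x - x = 0 := by
      refine IsHausdorff.haus (inferInstance : IsHausdorff (maximalIdeal R) R) _ fun n => ?_
      rw [SModEq.zero, smul_eq_mul, Ideal.mul_top]
      exact h1 n x
    exact sub_eq_zero.mp h3
  rw [h2, Spec.map_id]

end Groth.Agent.Sga3.H767.CompatPt
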