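import Groth.Agent.Proet.FacInd
import Groth.Agent.Etcore.PullbackSys
import Groth.Prelude.Def_AutFam
import Mathlib.AlgebraicGeometry.AffineTransitionLimit
import Mathlib.CategoryTheory.Limits.Constructions.Over.Connected

/-!
# Families of homomorphisms over a filtered colimit of rings

`A` a ring, `L` an `A`-algebra with the factorization property `Fac A P L` (every map from a finitely presented
`A`-algebra to `L` factors through a `P`-algebra).  `Z`, `G` group schemes over `Spec A`, `Z` quasi-compact and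
quasi-separated, `G` locally of finite presentation.  Every family of homomorphisms `Z → G` parametrised by
`Spec L` comes from a family parametrised by `Spec W`, `W` a `P`-algebra with a map `W → L`.
-/

set_option autoImplicit false
universe u

open CategoryTheory CategoryTheory.Limits MonoidalCategory CartesianMonoidalCategory MonObj GrpObj AlgebraicGeometry
  Opposite

namespace Groth.Agent.Sga3.H767.FamLim

open Groth.Agent.Proet.FacM Groth.Agent.Proet.FacInd Groth.Agent.Etcore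

/-- The spectrum of an algebra, over the base. -/
noncomputable abbrev sp (A W : Type u) [CommRing A] [CommRing W] [Algebra A W] : Over (Spec (CommRingCat.of A)) :=
  Over.mk (Spec.map (CommRingCat.ofHom (algebraMap A W)))

/-- The morphism of spectra attached to a map of algebras. -/
noncomputable def spMap {A W W' : Type u} [CommRing A] [CommRing W] [Algebra A W] [CommRing W'] [Algebra A W']
    (b : W →ₐ[A] W') : sp A W' ⟶ sp A W :=
  Over.homMk (Spec.map (CommRingCat.ofHom b.toRingHom)) (by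
    simp only [Over.mk_hom, ← Spec.map_comp, ← CommRingCat.ofHom_comp]
    congr 2
    exact b.comp_algebraMap)

@[simp] lemma spMap_left {A W W' : Type u} [CommRing A] [CommRing W] [Algebra A W] [CommRing W'] [Algebra A W']
    (b : W →ₐ[A] W') : (spMap b).left = Spec.map (CommRingCat.ofHom b.toRingHom) := rfl

lemma spMap_comp {A W W' W'' : Type u} [CommRing A] [CommRing W] [Algebra A W] [CommRing W'] [Algebra A W']
    [CommRing W''] [Algebra A W''] (b : W →ₐ[A] W') (c : W' →ₐ[A] W'') :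
    spMap c ≫ spMap b = spMap (c.comp b) := by
  ext1
  simp only [Over.comp_left, spMap_left, ← Spec.map_comp, ← CommRingCat.ofHom_comp]
  rfl

section family

variable {S : Scheme.{u}} (Z G : Over S) [GrpObj Z] [GrpObj G] {T : Over S}

/-- left hand side of the multiplicativity equation -/
noncomputable def lhs (v : Z ⊗ T ⟶ G) : (Z ⊗ Z) ⊗ T ⟶ G :=
  lift ((fst (Z ⊗ Z) T ≫ fst Z Z) * (fst (Z ⊗ Z) T ≫ snd Z Z)) (snd (Z ⊗ Z) T) ≫ v

/-- right hand side of the multiplicativity equation -/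
noncomputable def rhs (v : Z ⊗ T ⟶ G) : (Z ⊗ Z) ⊗ T ⟶ G :=
  (lift (fst (Z ⊗ Z) T ≫ fst Z Z) (snd (Z ⊗ Z) T) ≫ v) * (lift (fst (Z ⊗ Z) T ≫ snd Z Z) (snd (Z ⊗ Z) T) ≫ v)

variable {Z G}

theorem isHomFamily_iff (v : Z ⊗ T ⟶ G) : AutFam.IsHomFamily Z G v ↔ lhs Z G v = rhs Z G v := by
  constructor
  · intro h
    exact h _ _ _ _
  · intro h X g₁ g₂ t
    have h1 := congrArg (fun k => lift (lift g₁ g₂) t ≫ k) h
    simp only [lhs, rhs, comp_lift_assoc, MonObj.comp_mul, lift_fst_assoc, lift_fst, lift_snd] at h1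
    exact h1

omit [GrpObj G] in
lemma lhs_whisker {T' : Over S} (p : T' ⟶ T) (v : Z ⊗ T ⟶ G) :
    lhs Z G (Z ◁ p ≫ v) = (Z ⊗ Z) ◁ p ≫ lhs Z G v := by
  unfold lhs
  rw [← Category.assoc, ← Category.assoc, lift_whiskerLeft, comp_lift, MonObj.comp_mul]
  simp only [whiskerLeft_fst_assoc, whiskerLeft_snd]

omit [GrpObj Z] in
lemma rhs_whisker {T' : Over S} (p : T' ⟶ T) (v : Z ⊗ T ⟶ G) :
    rhs Z G (Z ◁ p ≫ v) = (Z ⊗ Z) ◁ p ≫ rhs Z G v := by
  unfold rhs
  rw [MonObj.comp_mul]
  simp only [← Category.assoc, lift_whiskerLeft, comp_lift, whiskerLeft_snd, whiskerLeft_fst]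

end family

section limit

variable {K : Type u} [SmallCategory K] (T : K ⥤ Scheme.{u}) {S : Scheme.{u}} (τ : ∀ a : K, T.obj a ⟶ S)
  (hτ : ∀ ⦃a b : K⦄ (h : a ⟶ b), T.map h ≫ τ b = τ a) (c : Cone T) (t : c.pt ⟶ S)
  (ht : ∀ a, c.π.app a ≫ τ a = t)

/-- transition between stages -/
def tr {a b : K} (h : a ⟶ b) : Over.mk (τ a) ⟶ Over.mk (τ b) := Over.homMk (T.map h) (hτ h)

/-- projection to a stage -/
def pr (a : K) : Over.mk t ⟶ Over.mk (τ a) := Over.homMk (c.π.app a) (ht a)

lemma pr_tr {a b : K} (h : a ⟶ b) : pr T τ c t ht a ≫ tr T τ hτ h = pr T τ c t ht b := by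
  ext1
  exact c.w h

variable [IsCofiltered K] [∀ (a b : K) (h : a ⟶ b), IsAffineHom (T.map h)] [∀ a, CompactSpace (T.obj a)]

section aux

set_option backward.isDefEq.respectTransparency false
set_option backward.defeqAttrib.useBackward true

variable (Z G : Over S) [QuasiCompact Z.hom]

include hτ in
theorem factor_aux [∀ a, QuasiSeparatedSpace (T.obj a)] (hc : IsLimit c) {Z G : Scheme.{u}}
    (z : Z ⟶ S) (g : G ⟶ S) [LocallyOfFinitePresentation g] [QuasiCompact z] [QuasiSeparated z]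
    (u : pullback z t ⟶ G) (hu : u ≫ g = pullback.fst _ _ ≫ z) :
    ∃ (j : K) (v : pullback z (τ j) ⟶ G), v ≫ g = pullback.fst _ _ ≫ z ∧
      PullbackSys.proj T τ z c t ht j ≫ v = u := by
  have i3 : ∀ a, CompactSpace ((PullbackSys.sys T τ hτ z).obj a) := fun a => PullbackSys.compactSpace_obj _ _ hτ z a
  have i4 : ∀ a, QuasiSeparatedSpace ((PullbackSys.sys T τ hτ z).obj a) :=
    fun a => PullbackSys.quasiSeparatedSpace_obj _ _ hτ z a
  have i5 : ∀ {a b} (f : a ⟶ b), IsAffineHom ((PullbackSys.sys T τ hτ z).map f) :=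
    fun f => PullbackSys.isAffineHom_mapp _ _ hτ z inferInstance f
  let t' : PullbackSys.sys T τ hτ z ⟶ (Functor.const K).obj S :=
    { app := fun j => pullback.fst _ _ ≫ z
      naturality := fun j k a => by simp }
  obtain ⟨j, v, hg1, hg2⟩ := Scheme.exists_π_app_comp_eq_of_locallyOfFinitePresentation
    (PullbackSys.sys T τ hτ z) t' g (PullbackSys.cone T τ hτ z c t ht) (PullbackSys.isLimitCone T τ hτ z c t ht hc) u (by
      ext j
      simp only [NatTrans.comp_app, PullbackSys.cone_π_app, Functor.const_map_app, t']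
      rw [PullbackSys.proj_fst_assoc, hu])
  exact ⟨j, v, hg2, hg1⟩

theorem eq_aux (hc : IsLimit c) {Z G : Scheme.{u}}
    (z : Z ⟶ S) (g : G ⟶ S) [LocallyOfFiniteType g] [QuasiCompact z] {j : K} (u v : pullback z (τ j) ⟶ G)
    (hu : u ≫ g = pullback.fst _ _ ≫ z) (hv : v ≫ g = pullback.fst _ _ ≫ z)
    (h : PullbackSys.proj T τ z c t ht j ≫ u = PullbackSys.proj T τ z c t ht j ≫ v) :
    ∃ (k : K) (b : k ⟶ j), PullbackSys.mapp T τ hτ z b ≫ u = PullbackSys.mapp T τ hτ z b ≫ v := by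
  have i3 : ∀ a, CompactSpace ((PullbackSys.sys T τ hτ z).obj a) := fun a => PullbackSys.compactSpace_obj _ _ hτ z a
  have i5 : ∀ {a b} (f : a ⟶ b), IsAffineHom ((PullbackSys.sys T τ hτ z).map f) :=
    fun f => PullbackSys.isAffineHom_mapp _ _ hτ z inferInstance f
  let t' : PullbackSys.sys T τ hτ z ⟶ (Functor.const K).obj S :=
    { app := fun j => pullback.fst _ _ ≫ z
      naturality := fun j k a => by simp }
  obtain ⟨k, b, hk⟩ := Scheme.exists_hom_comp_eq_comp_of_locallyOfFiniteType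
    (PullbackSys.sys T τ hτ z) t' g (PullbackSys.cone T τ hτ z c t ht) (PullbackSys.isLimitCone T τ hτ z c t ht hc)
    (i := j) u v hu.symm hv.symm h
  exact ⟨k, b, hk⟩

end aux

variable (Z G : Over S) [QuasiCompact Z.hom]

omit [IsCofiltered K] [∀ (a b : K) (h : a ⟶ b), IsAffineHom (T.map h)] [∀ a, CompactSpace (T.obj a)]
  [QuasiCompact Z.hom] in
lemma whisker_pr (a : K) : (Z ◁ pr T τ c t ht a).left = PullbackSys.proj T τ Z.hom c t ht a := by
  apply pullback.hom_ext
  · exact (Over.whiskerLeft_left_fst _).trans (PullbackSys.proj_fst T τ Z.hom c t ht a).symm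
  · exact (Over.whiskerLeft_left_snd _).trans (PullbackSys.proj_snd T τ Z.hom c t ht a).symm

omit [IsCofiltered K] [∀ (a b : K) (h : a ⟶ b), IsAffineHom (T.map h)] [∀ a, CompactSpace (T.obj a)]
  [QuasiCompact Z.hom] in
lemma whisker_tr {a b : K} (h : a ⟶ b) : (Z ◁ tr T τ hτ h).left = PullbackSys.mapp T τ hτ Z.hom h := by
  apply pullback.hom_ext
  · exact (Over.whiskerLeft_left_fst _).trans (PullbackSys.mapp_fst T τ hτ Z.hom h).symm
  · exact (Over.whiskerLeft_left_snd _).trans (PullbackSys.mapp_snd T τ hτ Z.hom h).symm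

include hτ in
/-- Families of morphisms parametrised by the limit come from a stage. -/
theorem exists_factor [∀ a, QuasiSeparatedSpace (T.obj a)] (hc : IsLimit c) [QuasiSeparated Z.hom]
    [LocallyOfFinitePresentation G.hom] (u : Z ⊗ Over.mk t ⟶ G) :
    ∃ (j : K) (v : Z ⊗ Over.mk (τ j) ⟶ G), Z ◁ pr T τ c t ht j ≫ v = u := by
  obtain ⟨j, v, h1, h2⟩ := factor_aux T τ hτ c t ht hc Z.hom G.hom u.left (Over.w u)
  refine ⟨j, Over.homMk v h1, ?_⟩
  ext1
  rw [Over.comp_left, whisker_pr]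
  exact h2

/-- Equality of families of morphisms parametrised by the limit holds at a stage. -/
theorem exists_eq (hc : IsLimit c) [LocallyOfFiniteType G.hom] {j : K} (u v : Z ⊗ Over.mk (τ j) ⟶ G)
    (h : Z ◁ pr T τ c t ht j ≫ u = Z ◁ pr T τ c t ht j ≫ v) :
    ∃ (k : K) (f : k ⟶ j), Z ◁ tr T τ hτ f ≫ u = Z ◁ tr T τ hτ f ≫ v := by
  have h' := congrArg (fun k => k.left) h
  simp only [Over.comp_left, whisker_pr] at h'
  obtain ⟨k, f, hk⟩ := eq_aux T τ hτ c t ht hc Z.hom G.hom u.left v.left (Over.w u) (Over.w v) h'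
  refine ⟨k, f, ?_⟩
  ext1
  rw [Over.comp_left, Over.comp_left, whisker_tr]
  exact hk

include hτ in
/-- Families of homomorphisms parametrised by the limit come from a stage. -/
theorem exists_homFamily [∀ a, QuasiSeparatedSpace (T.obj a)] (hc : IsLimit c) [GrpObj Z] [GrpObj G]
    [QuasiSeparated Z.hom] [LocallyOfFinitePresentation G.hom] (u : Z ⊗ Over.mk t ⟶ G)
    (hu : AutFam.IsHomFamily Z G u) :
    ∃ (j : K) (v : Z ⊗ Over.mk (τ j) ⟶ G), AutFam.IsHomFamily Z G v ∧ Z ◁ pr T τ c t ht j ≫ v = u := by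
  obtain ⟨j, v, hv⟩ := exists_factor T τ hτ c t ht Z G hc u
  have i1 : QuasiCompact (Z ⊗ Z).hom := inferInstanceAs (QuasiCompact (pullback.fst Z.hom Z.hom ≫ Z.hom))
  have h1 : (Z ⊗ Z) ◁ pr T τ c t ht j ≫ lhs Z G v = (Z ⊗ Z) ◁ pr T τ c t ht j ≫ rhs Z G v := by
    rw [← lhs_whisker, ← rhs_whisker, hv]
    exact (isHomFamily_iff u).mp hu
  obtain ⟨k, f, hk⟩ := exists_eq T τ hτ c t ht (Z ⊗ Z) G hc _ _ h1
  refine ⟨k, Z ◁ tr T τ hτ f ≫ v, ?_, ?_⟩
  · rw [isHomFamily_iff, lhs_whisker, rhs_whisker, hk]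
  · rw [← Category.assoc, ← whiskerLeft_comp, pr_tr, hv]

end limit

end Groth.Agent.Sga3.H767.FamLim
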