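import Groth.Agent.Sga3.H767.FamLim

/-!
# Families of homomorphisms over a filtered colimit of rings, II

`A` a ring, `L` an `A`-algebra which is a filtered colimit of `P`-algebras (`IsInd A P L`, or the factorization
property `Fac A P L`).  `Z`, `G` group schemes over `Spec A`, `Z` quasi-compact and quasi-separated, `G` locally of
finite presentation.  Every family of homomorphisms `Z → G` parametrised by `Spec L` comes from a family
parametrised by `Spec W`, `W` a `P`-algebra with a map `W → L`.
-/

set_option autoImplicit false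
universe u

open CategoryTheory CategoryTheory.Limits MonoidalCategory CartesianMonoidalCategory MonObj GrpObj AlgebraicGeometry
  Opposite

namespace Groth.Agent.Sga3.H767.FamRing

open Groth.Agent.Proet.FacM Groth.Agent.Proet.FacInd Groth.Agent.Sga3.H767.FamLim

theorem isHomFamily_whisker {S : Scheme.{u}} {Z G T T' : Over S} [GrpObj Z] [GrpObj G] (v : Z ⊗ T ⟶ G)
    (hv : AutFam.IsHomFamily Z G v) (p : T' ⟶ T) : AutFam.IsHomFamily Z G (Z ◁ p ≫ v) := by
  rw [isHomFamily_iff, lhs_whisker, rhs_whisker, (isHomFamily_iff v).mp hv]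

variable {A : Type u} [CommRing A] {P : ∀ (W : Type u) [CommRing W] [Algebra A W], Prop}
  {L : Type u} [CommRing L] [Algebra A L] {Z G : Over (Spec (CommRingCat.of A))} [GrpObj Z] [GrpObj G]

/-- Families over a filtered colimit come from a stage. -/
theorem exists_of_isInd (h : IsInd A P L) [QuasiCompact Z.hom] [QuasiSeparated Z.hom]
    [LocallyOfFinitePresentation G.hom] (u : Z ⊗ sp A L ⟶ G) (hu : AutFam.IsHomFamily Z G u) :
    ∃ (W : Type u) (_ : CommRing W) (_ : Algebra A W) (b : W →ₐ[A] L) (v : Z ⊗ sp A W ⟶ G),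
      P W ∧ AutFam.IsHomFamily Z G v ∧ Z ◁ spMap b ≫ v = u := by
  obtain ⟨J, _, _, F, c, hc, hF, ⟨e⟩⟩ := h
  let T : Jᵒᵖ ⥤ Scheme.{u} := (F ⋙ Under.forget (CommRingCat.of A)).op ⋙ Scheme.Spec
  let τ : ∀ a : Jᵒᵖ, T.obj a ⟶ Spec (CommRingCat.of A) := fun a => Spec.map (F.obj a.unop).hom
  have hτ : ∀ ⦃a b : Jᵒᵖ⦄ (g : a ⟶ b), T.map g ≫ τ b = τ a := by
    intro a b g
    have h1 := Under.w (F.map g.unop)
    change Spec.map (F.map g.unop).right ≫ Spec.map (F.obj b.unop).hom = Spec.map (F.obj a.unop).hom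
    rw [← Spec.map_comp, h1]
  have h1 : IsColimit ((Under.forget (CommRingCat.of A)).mapCocone c) :=
    isColimitOfPreserves (Under.forget (CommRingCat.of A)) hc
  let c' : Cone T := Scheme.Spec.mapCone ((Under.forget (CommRingCat.of A)).mapCocone c).op
  have hc' : IsLimit c' := isLimitOfPreserves Scheme.Spec h1.op
  let t : c'.pt ⟶ Spec (CommRingCat.of A) := Spec.map c.pt.hom
  have ht : ∀ a, c'.π.app a ≫ τ a = t := by
    intro a
    have h2 := Under.w (c.ι.app a.unop)
    change Spec.map (c.ι.app a.unop).right ≫ Spec.map (F.obj a.unop).hom = Spec.map c.pt.hom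
    rw [← Spec.map_comp]
    exact congrArg Spec.map h2
  have i1 : ∀ (a b : Jᵒᵖ) (g : a ⟶ b), IsAffineHom (T.map g) := fun a b g => by
    change IsAffineHom (Spec.map (F.map g.unop).right)
    infer_instance
  have i2 : ∀ a, CompactSpace (T.obj a) := fun a => by
    change CompactSpace (Spec (F.obj a.unop).right)
    infer_instance
  have i3 : ∀ a, QuasiSeparatedSpace (T.obj a) := fun a => by
    change QuasiSeparatedSpace (Spec (F.obj a.unop).right)
    infer_instance
  let p : Over.mk t ⟶ sp A L := Over.homMk (Spec.map e.inv.right) (by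
    have h2 := Under.w e.inv
    change Spec.map e.inv.right ≫ Spec.map (CommRingCat.ofHom (algebraMap A L)) = Spec.map c.pt.hom
    rw [← Spec.map_comp]
    exact congrArg Spec.map h2)
  let q : sp A L ⟶ Over.mk t := Over.homMk (Spec.map e.hom.right) (by
    have h2 := Under.w e.hom
    change Spec.map e.hom.right ≫ Spec.map c.pt.hom = Spec.map (CommRingCat.ofHom (algebraMap A L))
    rw [← Spec.map_comp]
    exact congrArg Spec.map h2)
  have hqp : q ≫ p = 𝟙 _ := by
    ext1
    change Spec.map e.hom.right ≫ Spec.map e.inv.right = 𝟙 _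
    rw [← Spec.map_comp, ← Spec.map_id]
    exact congrArg Spec.map (congrArg CommaMorphism.right e.inv_hom_id)
  obtain ⟨j, v, hv, hvu⟩ := exists_homFamily T τ hτ c' t ht Z G hc' (Z ◁ p ≫ u) (isHomFamily_whisker u hu p)
  let al : Algebra A (F.obj j.unop).right := (F.obj j.unop).hom.hom.toAlgebra
  have hcA : ∀ a : A, ((c.ι.app j.unop) ≫ e.hom).right.hom (algebraMap A (F.obj j.unop).right a) =
      algebraMap A L a := by
    intro a
    exact congrArg (fun f => f.hom a) (Under.w ((c.ι.app j.unop) ≫ e.hom))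
  let b : (F.obj j.unop).right →ₐ[A] L := { ((c.ι.app j.unop) ≫ e.hom).right.hom with commutes' := hcA }
  refine ⟨(F.obj j.unop).right, inferInstance, al, b, v, hF j.unop, hv, ?_⟩
  have h3 : spMap b = q ≫ pr T τ c' t ht j := by
    ext1
    change Spec.map ((c.ι.app j.unop) ≫ e.hom).right = Spec.map e.hom.right ≫ Spec.map (c.ι.app j.unop).right
    rw [← Spec.map_comp]
    rfl
  have h4 : Z ◁ (q ≫ pr T τ c' t ht j) ≫ v = u := by
    rw [whiskerLeft_comp, Category.assoc, hvu, ← Category.assoc, ← whiskerLeft_comp, hqp, whiskerLeft_id,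
      Category.id_comp]
  exact (congrArg (fun k => Z ◁ k ≫ v) h3).trans h4

/-- Families over an algebra with the factorization property come from a `P`-algebra. -/
theorem exists_of_fac (hP : Good P) (h : Fac A P L) [QuasiCompact Z.hom] [QuasiSeparated Z.hom]
    [LocallyOfFinitePresentation G.hom] (u : Z ⊗ sp A L ⟶ G) (hu : AutFam.IsHomFamily Z G u) :
    ∃ (W : Type u) (_ : CommRing W) (_ : Algebra A W) (b : W →ₐ[A] L) (v : Z ⊗ sp A W ⟶ G),
      P W ∧ AutFam.IsHomFamily Z G v ∧ Z ◁ spMap b ≫ v = u :=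
  exists_of_isInd (h.isInd hP) u hu

/-- finite presentation as a predicate on algebras -/
abbrev Fp (A : Type u) [CommRing A] : ∀ (W : Type u) [CommRing W] [Algebra A W], Prop :=
  fun W _ _ => Algebra.FinitePresentation A W

theorem good_fp : Good (Fp A) where
  iso W W' _ _ _ _ e h := by
    have : Algebra.FinitePresentation A W := h
    exact Algebra.FinitePresentation.equiv e
  fp W _ _ h := h

theorem fac_fp (L : Type u) [CommRing L] [Algebra A L] : Fac A (Fp A) L := fun Z _ _ hZ g =>
  ⟨Z, inferInstance, inferInstance, AlgHom.id A Z, g, hZ, AlgHom.ext fun _ => rfl⟩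

/-- Families over any algebra come from a finitely presented algebra. -/
theorem exists_finitePresentation [QuasiCompact Z.hom] [QuasiSeparated Z.hom]
    [LocallyOfFinitePresentation G.hom] (u : Z ⊗ sp A L ⟶ G) (hu : AutFam.IsHomFamily Z G u) :
    ∃ (W : Type u) (_ : CommRing W) (_ : Algebra A W) (b : W →ₐ[A] L) (v : Z ⊗ sp A W ⟶ G),
      Algebra.FinitePresentation A W ∧ AutFam.IsHomFamily Z G v ∧ Z ◁ spMap b ≫ v = u :=
  exists_of_fac good_fp (fac_fp L) u hu

end Groth.Agent.Sga3.H767.FamRing
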