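import Groth.Agent.Sga3.H767.Popescu
import Groth.Agent.Sga3.H774.HomRep
import Groth.Agent.Sga3.H816.HomTorOf
import Groth.Agent.Pi1A.HensPairFP

/-!
# S4138 from effectivity over complete noetherian local rings

`s4138_of_eff` : the representability of `Hom_{S-gr}(T, G)` by a smooth separated `S`-scheme, for `G` smooth,
quasi-compact and quasi-separated with affine fibres and `T` a torus, if homomorphisms from split tori to such groups
(with connected fibres) lift from the closed point of every complete noetherian local ring.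
-/

set_option autoImplicit false
universe u

open CategoryTheory CategoryTheory.Limits MonoidalCategory CartesianMonoidalCategory MonObj GrpObj AlgebraicGeometry

namespace Groth.Agent.Sga3.H767.OfEff

open Groth.Agent.Sga3B Groth.Agent.Sga3.H767.Popescu Groth.Agent.Sga3.H816.HomTorAsm

/-- Rings of finite type over `ℤ` are G-rings. -/
theorem isGRing_of_finiteType_int (B : Type u) [CommRing B] [h : Algebra.FiniteType ℤ B] : CAlg.IsGRing B := by
  let f : ULift.{u} ℤ →+* B := (algebraMap ℤ B).comp (ULift.ringEquiv (R := ℤ)).toRingHom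
  let : Algebra (ULift.{u} ℤ) B := f.toAlgebra
  have h1 : (algebraMap ℤ B).FiniteType := RingHom.finiteType_algebraMap.mpr h
  have h2 : f.FiniteType :=
    h1.comp (RingHom.FiniteType.of_surjective _ (ULift.ringEquiv (R := ℤ)).surjective)
  have h3 : Algebra.FiniteType (ULift.{u} ℤ) B := h2
  exact Groth.Agent.S0599.result (ULift.{u} ℤ) Groth.Agent.Pi1A.HensPair.isGRing_int B

theorem splitCase_of_eff (hE : Eff.{u}) : SplitCase.{u} := by
  intro B _ hB G _ _ _ _ _ haff hU r
  have hG : CAlg.IsGRing B := isGRing_of_finiteType_int B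
  have hN : IsNoetherianRing B := hG.1
  exact Groth.Agent.Sga3.H816.RepDef.Rep.of_exists
    (Groth.Agent.Sga3.H774.HomRep.exists_representsHom (B := CommRingCat.of B) r G hU
      (fun K _ x y hy => exists_smooth_lift hE hG G haff hU r x y hy))

/-- **S4138** from effectivity. -/
theorem s4138_of_eff (hE : Eff.{u}) (S : Scheme.{u}) (G T : Over S) [GrpObj G] [GrpObj T]
    [Smooth G.hom] [QuasiCompact G.hom] [QuasiSeparated G.hom]
    (haff : ∀ s : S, IsAffine (pullback G.hom (S.fromSpecResidueField s))) (hT : Red.IsTorus T) :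
    ∃ (A : Over S) (υ : T ⊗ A ⟶ G), AutFam.RepresentsHom T G A υ ∧ Smooth A.hom ∧ IsSeparated A.hom :=
  Groth.Agent.Sga3.H816.HomTorOf.of_splitCase (splitCase_of_eff hE) S G T haff hT

/-- Effectivity in the form without an affine neighbourhood of the unit section. -/
theorem eff_of (h : ∀ (C : Type u) [CommRing C] [IsNoetherianRing C] [IsLocalRing C]
    [IsAdicComplete (IsLocalRing.maximalIdeal C) C]
    (G : Over (Spec (CommRingCat.of C))) [GrpObj G] [Smooth G.hom] [IsSeparated G.hom] [QuasiCompact G.hom]
    [GeometricallyIrreducible G.hom],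
    (∀ s : Spec (CommRingCat.of C), IsAffine (pullback G.hom ((Spec (CommRingCat.of C)).fromSpecResidueField s))) →
    ∀ (r : ℕ)
    (y : Red.DS _ (Fin r → ℤ) ⊗ Over.mk (Spec.map (CommRingCat.ofHom (IsLocalRing.residue C))) ⟶ G),
    AutFam.IsHomFamily _ G y →
    ∃ u : Red.DS _ (Fin r → ℤ) ⊗ Over.mk (𝟙 (Spec (CommRingCat.of C))) ⟶ G, AutFam.IsHomFamily _ G u ∧
      (_ ◁ (Over.homMk (Spec.map (CommRingCat.ofHom (IsLocalRing.residue C))) (Category.comp_id _) :
        Over.mk (Spec.map (CommRingCat.ofHom (IsLocalRing.residue C))) ⟶ Over.mk (𝟙 _))) ≫ u = y) :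
    Eff.{u} := fun C _ _ _ _ G _ _ _ _ _ haff _ r y hy => h C G haff r y hy

end Groth.Agent.Sga3.H767.OfEff
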